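import Groth.Prelude.Def_W4bk4grossh1223Act
import Mathlib

/-!
# Invariants of a compatible module through the square-zero extension
-/

set_option autoImplicit false
universe u

open CategoryTheory MonObj AlgebraicGeometry
open scoped TensorProduct

noncomputable section

namespace Groth.ModInv

variable (k : Type u) [Field k]
variable (A : Type u) [CommRing A] [Algebra k A] (M : Type u) [AddCommGroup M] [Module A M] [Module k M]
  [IsScalarTower k A M] [Module Aᵐᵒᵖ M] [IsCentralScalar A M] [IsScalarTower k Aᵐᵒᵖ M]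
variable (B : Type u) [CommRing B] [Algebra k B]

/-- The linear identification of the square-zero extension with the product. -/
def lin : TrivSqZeroExt A M ≃ₗ[k] A × M where
  toFun r := (r.fst, r.snd)
  map_add' _ _ := rfl
  map_smul' c r := by ext <;> simp
  invFun p := (p.1, p.2)
  left_inv _ := rfl
  right_inv _ := rfl

/-- `B ⊗ (A ⊕ M) ≅ (B ⊗ A) × (B ⊗ M)`. -/
def split : B ⊗[k] TrivSqZeroExt A M ≃ₗ[B] (B ⊗[k] A) × (B ⊗[k] M) :=
  TensorProduct.AlgebraTensorModule.congr (LinearEquiv.refl B B) (lin k A M) ≪≫ₗ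
    TensorProduct.prodRight k B B A M

theorem split_tmul (b : B) (r : TrivSqZeroExt A M) : split k A M B (b ⊗ₜ r) = (b ⊗ₜ r.fst, b ⊗ₜ r.snd) := rfl

omit [Module Aᵐᵒᵖ M] [IsCentralScalar A M] [IsScalarTower k Aᵐᵒᵖ M] in
theorem smulW_tmul (b b' : B) (a : A) (x : M) :
    VecGrp.GMod.smulW k A M B (b ⊗ₜ a) (b' ⊗ₜ x) = (b * b') ⊗ₜ (a • x) := rfl

theorem split_mul (x y : B ⊗[k] TrivSqZeroExt A M) :
    split k A M B (x * y) = ((split k A M B x).1 * (split k A M B y).1,
      VecGrp.GMod.smulW k A M B (split k A M B x).1 (split k A M B y).2 +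
        VecGrp.GMod.smulW k A M B (split k A M B y).1 (split k A M B x).2) := by
  induction x using TensorProduct.induction_on with
  | zero => simp [Prod.zero_eq_mk]
  | add x x' hx hx' =>
    rw [add_mul, map_add, hx, hx', map_add]
    ext
    · simp only [Prod.fst_add, add_mul]
    · simp only [Prod.snd_add, Prod.fst_add, map_add, LinearMap.add_apply]; abel
  | tmul b r =>
    induction y using TensorProduct.induction_on with
    | zero => simp [Prod.zero_eq_mk]
    | add y y' hy hy' =>
      rw [mul_add, map_add, hy, hy', map_add]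
      ext
      · simp only [Prod.fst_add, mul_add]
      · simp only [Prod.snd_add, Prod.fst_add, map_add, LinearMap.add_apply]; abel
    | tmul b' r' =>
      rw [Algebra.TensorProduct.tmul_mul_tmul, split_tmul, split_tmul, split_tmul]
      ext
      · simp
      · simp only [TrivSqZeroExt.snd_mul, op_smul_eq_smul, TensorProduct.tmul_add, smulW_tmul, mul_comm b' b]

theorem split_one : split k A M B 1 = (1, 0) := by
  rw [Algebra.TensorProduct.one_def, split_tmul, TrivSqZeroExt.fst_one, TrivSqZeroExt.snd_one,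
    TensorProduct.tmul_zero]
  rfl

theorem split_Wmap {B' : Type u} [CommRing B'] [Algebra k B'] (φ : B →ₐ[k] B') (x : B ⊗[k] TrivSqZeroExt A M) :
    split k A M B' (VecGrp.Wmap φ x) =
      (VecGrp.Wmap φ (split k A M B x).1, VecGrp.Wmap φ (split k A M B x).2) := by
  induction x using TensorProduct.induction_on with
  | zero => simp [Prod.zero_eq_mk]
  | tmul b r => rw [VecGrp.Wmap_tmul, split_tmul, split_tmul, VecGrp.Wmap_tmul, VecGrp.Wmap_tmul]
  | add x y hx hy => simp only [map_add, hx, hy, Prod.fst_add, Prod.snd_add, Prod.mk_add_mk]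

variable {k A M}
variable {G : Over (Spec (CommRingCat.of k))} [GrpObj G] (ρA : VecGrp.GMod G A) (ρM : VecGrp.GMod G M)

/-- The action on the square-zero extension. -/
def gmod : VecGrp.GMod G (TrivSqZeroExt A M) where
  ρ B _ _ :=
    { toFun := fun g => split k A M B ≪≫ₗ (ρA.ρ B g).prodCongr (ρM.ρ B g) ≪≫ₗ (split k A M B).symm
      map_one' := LinearEquiv.ext fun x => by
        rw [map_one, map_one]
        exact (split k A M B).symm_apply_apply x
      map_mul' := fun g h => LinearEquiv.ext fun x => by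
        rw [map_mul, map_mul]
        simp only [LinearEquiv.trans_apply, LinearEquiv.mul_apply, LinearEquiv.prodCongr_apply,
          LinearEquiv.apply_symm_apply] }
  naturality {B B'} _ _ _ _ φ g x := by
    refine (split k A M B').injective ?_
    simp only [MonoidHom.coe_mk, OneHom.coe_mk, LinearEquiv.trans_apply, LinearEquiv.apply_symm_apply,
      LinearEquiv.prodCongr_apply, split_Wmap, ρA.naturality, ρM.naturality]

theorem gmod_split (g : VecGrp.pt k B ⟶ G) (x : B ⊗[k] TrivSqZeroExt A M) :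
    split k A M B ((gmod ρA ρM).ρ B g x) =
      (ρA.ρ B g (split k A M B x).1, ρM.ρ B g (split k A M B x).2) := by
  simp only [gmod, MonoidHom.coe_mk, OneHom.coe_mk, LinearEquiv.trans_apply, LinearEquiv.apply_symm_apply,
    LinearEquiv.prodCongr_apply]

theorem gmod_isMult (hρ : ρA.IsMult) (hc : VecGrp.GMod.IsCompat ρA ρM) : (gmod ρA ρM).IsMult := by
  intro B _ _ g
  refine ⟨fun x y => (split k A M B).injective ?_, (split k A M B).injective ?_⟩
  · rw [split_mul, gmod_split, gmod_split, gmod_split, split_mul, (hρ B g).1, map_add, hc, hc]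
  · rw [gmod_split, split_one, (hρ B g).2, map_zero]

theorem mem_fixed_iff (r : TrivSqZeroExt A M) :
    r ∈ (gmod ρA ρM).fixedUnder (𝟙 G) ↔ r.fst ∈ ρA.fixedUnder (𝟙 G) ∧ r.snd ∈ ρM.fixedUnder (𝟙 G) := by
  constructor
  · intro h
    refine ⟨fun B _ _ g => ?_, fun B _ _ g => ?_⟩
    · have h' := congrArg (fun z => (split k A M B z).1) (h B g)
      simpa only [gmod_split, split_tmul] using h'
    · have h' := congrArg (fun z => (split k A M B z).2) (h B g)
      simpa only [gmod_split, split_tmul] using h'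
  · rintro ⟨h1, h2⟩ B _ _ g
    exact (split k A M B).injective (by rw [gmod_split, split_tmul, h1 B g, h2 B g])

omit [Field k] in
theorem finiteType_sqZero (k A M : Type u) [CommRing k] [CommRing A] [Algebra k A] [AddCommGroup M] [Module A M]
    [Module k M] [IsScalarTower k A M] [Module Aᵐᵒᵖ M] [IsCentralScalar A M] [IsScalarTower k Aᵐᵒᵖ M]
    [Algebra.FiniteType k A] [Module.Finite A M] : Algebra.FiniteType k (TrivSqZeroExt A M) := by
  have : Module.Finite A (TrivSqZeroExt A M) :=
    Module.Finite.equiv (M := A × M)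
      { toFun := fun p => (p.1, p.2)
        invFun := fun r => (r.fst, r.snd)
        map_add' := fun _ _ => rfl
        map_smul' := fun _ _ => rfl
        left_inv := fun _ => rfl
        right_inv := fun _ => rfl }
  have : IsScalarTower k A (TrivSqZeroExt A M) :=
    IsScalarTower.of_algebraMap_eq fun c => rfl
  exact Algebra.FiniteType.trans (S := A) inferInstance inferInstance

/-- Finite generation of the invariants of a compatible module. -/
theorem exists_span [Algebra.FiniteType k A] [Module.Finite A M] (thmA : VecGrp.ReductiveInvariantsFG k)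
    (hG : VecGrp.IsReductiveGrp k G) (hρ : ρA.IsMult) (hc : VecGrp.GMod.IsCompat ρA ρM) :
    ∃ s : Finset M, (↑s : Set M) ⊆ ρM.fixedUnder (𝟙 G) ∧
      ρM.fixedUnder (𝟙 G) ≤ (Submodule.span ↥(ρA.fixedSubalgebra hρ (𝟙 G)) (↑s : Set M)).restrictScalars k := by
  classical
  obtain ⟨S, hS, hgen⟩ := thmA G hG (TrivSqZeroExt A M) (gmod ρA ρM) (gmod_isMult ρA ρM hρ hc)
    (finiteType_sqZero k A M)
  let t : Finset M := S.image TrivSqZeroExt.snd
  refine ⟨t, fun m hm => ?_, fun m hm => ?_⟩
  · obtain ⟨r, hr, rfl⟩ := Finset.mem_image.1 hm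
    exact ((mem_fixed_iff ρA ρM r).1 (hS hr)).2
  let N := Submodule.span ↥(ρA.fixedSubalgebra hρ (𝟙 G)) (↑t : Set M)
  let T : Subalgebra k (TrivSqZeroExt A M) :=
    { carrier := {r | r.fst ∈ ρA.fixedSubalgebra hρ (𝟙 G) ∧ r.snd ∈ N}
      mul_mem' := fun {r r'} h h' => ⟨mul_mem h.1 h'.1, by
        rw [TrivSqZeroExt.snd_mul, op_smul_eq_smul]
        exact add_mem (N.smul_mem ⟨r.fst, h.1⟩ h'.2) (N.smul_mem ⟨r'.fst, h'.1⟩ h.2)⟩
      one_mem' := ⟨one_mem _, zero_mem _⟩
      add_mem' := fun {r r'} h h' => ⟨add_mem h.1 h'.1, add_mem h.2 h'.2⟩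
      zero_mem' := ⟨zero_mem _, zero_mem _⟩
      algebraMap_mem' := fun c => ⟨Subalgebra.algebraMap_mem _ c, zero_mem _⟩ }
  have hST : (↑S : Set (TrivSqZeroExt A M)) ⊆ T := fun r hr =>
    ⟨((mem_fixed_iff ρA ρM r).1 (hS hr)).1, Submodule.subset_span (Finset.mem_image_of_mem _ hr)⟩
  have hfix : TrivSqZeroExt.inr m ∈ (gmod ρA ρM).fixedUnder (𝟙 G) :=
    (mem_fixed_iff ρA ρM _).2 ⟨by rw [TrivSqZeroExt.fst_inr]; exact zero_mem _,
      by rw [TrivSqZeroExt.snd_inr]; exact hm⟩
  exact ((Algebra.adjoin_le hST (hgen hfix)).2 : _)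

end Groth.ModInv

end
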